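/-
Isotypic decomposition of subcomodules by simple subcoalgebras, generated submodules, weights.
-/
import Groth.Prelude.Def_W4c3ghconstell
import Groth.Agent.Lib.CoalgH23.Basic

set_option autoImplicit false

universe u v w w'

open TensorProduct

namespace Groth.Agent.GHConst3

open W4c3ghconstell CoalgH23

section Coalg

variable {k : Type u} {A : Type v} [Field k] [AddCommGroup A] [Module k A] [Coalgebra k A]

theorem isSubcoalg_sup {D E : Submodule k A} (hD : IsSubcoalg k A D) (hE : IsSubcoalg k A E) :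
    IsSubcoalg k A (D ⊔ E) := by
  intro d hd
  obtain ⟨a, ha, b, hb, rfl⟩ := Submodule.mem_sup.1 hd
  rw [map_add]
  refine add_mem ?_ ?_
  · obtain ⟨z, hz⟩ := hD a ha
    exact ⟨TensorProduct.map (Submodule.inclusion le_sup_left) (Submodule.inclusion le_sup_left) z, by
      rw [TensorProduct.map_map]; exact hz⟩
  · obtain ⟨z, hz⟩ := hE b hb
    exact ⟨TensorProduct.map (Submodule.inclusion le_sup_right) (Submodule.inclusion le_sup_right) z, by
      rw [TensorProduct.map_map]; exact hz⟩

theorem isSubcoalg_bot : IsSubcoalg k A (⊥ : Submodule k A) := fun d hd => by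
  rw [(Submodule.mem_bot k).1 hd, map_zero]; exact zero_mem _

theorem mem_range_lTensor_of_mem {D : Submodule k A} (hD : IsSubcoalg k A D) {d : A} (hd : d ∈ D) :
    CoalgebraStruct.comul (R := k) d ∈ LinearMap.range (D.subtype.lTensor A) := by
  obtain ⟨z, hz⟩ := hD d hd
  exact ⟨D.subtype.rTensor D z, by rw [← LinearMap.comp_apply, LinearMap.lTensor_comp_rTensor, hz]⟩

theorem mem_range_rTensor_of_mem {D : Submodule k A} (hD : IsSubcoalg k A D) {d : A} (hd : d ∈ D) :
    CoalgebraStruct.comul (R := k) d ∈ LinearMap.range (D.subtype.rTensor A) := by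
  obtain ⟨z, hz⟩ := hD d hd
  exact ⟨D.subtype.lTensor D z, by rw [← LinearMap.comp_apply, LinearMap.rTensor_comp_lTensor, hz]⟩

theorem isSubcoalg_inf {D E : Submodule k A} (hD : IsSubcoalg k A D) (hE : IsSubcoalg k A E) :
    IsSubcoalg k A (D ⊓ E) := by
  intro d hd
  obtain ⟨p, hp⟩ := LinearMap.exists_leftInverse_of_injective (D ⊓ E).subtype (Submodule.ker_subtype _)
  have hl : CoalgebraStruct.comul (R := k) d ∈ LinearMap.range ((D ⊓ E).subtype.lTensor A) := by
    rw [mem_range_lTensor_iff]
    intro χ hχ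
    obtain ⟨z, hz⟩ := mem_range_lTensor_of_mem hD hd.1
    obtain ⟨pD, hpD⟩ := LinearMap.exists_leftInverse_of_injective D.subtype (Submodule.ker_subtype _)
    obtain ⟨pE, hpE⟩ := LinearMap.exists_leftInverse_of_injective E.subtype (Submodule.ker_subtype _)
    have h1 : (D.subtype ∘ₗ pD).lTensor A (CoalgebraStruct.comul (R := k) d) = CoalgebraStruct.comul (R := k) d := by
      rw [← hz, ← LinearMap.comp_apply, ← LinearMap.lTensor_comp, LinearMap.comp_assoc, hpD, LinearMap.comp_id]
    obtain ⟨z', hz'⟩ := mem_range_lTensor_of_mem hE hd.2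
    have h2 : (E.subtype ∘ₗ pE).lTensor A (CoalgebraStruct.comul (R := k) d) = CoalgebraStruct.comul (R := k) d := by
      rw [← hz', ← LinearMap.comp_apply, ← LinearMap.lTensor_comp, LinearMap.comp_assoc, hpE, LinearMap.comp_id]
    refine eq_of_slice_eq_zero χ hχ ?_ ?_
    · exact ⟨z, hz⟩
    · exact ⟨z', hz'⟩
  have hr : CoalgebraStruct.comul (R := k) d ∈ LinearMap.range ((D ⊓ E).subtype.rTensor A) := by
    rw [mem_range_rTensor_iff]
    intro χ
    exact ⟨slice_mem_of_mem_range χ D (mem_range_rTensor_of_mem hD hd.1),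
      slice_mem_of_mem_range χ E (mem_range_rTensor_of_mem hE hd.2)⟩
  obtain ⟨y, hy⟩ := hl
  have hfix : ((D ⊓ E).subtype ∘ₗ p).lTensor A (CoalgebraStruct.comul (R := k) d) = CoalgebraStruct.comul (R := k) d := by
    rw [← hy, ← LinearMap.comp_apply, ← LinearMap.lTensor_comp, LinearMap.comp_assoc, hp, LinearMap.comp_id]
  obtain ⟨w, hw⟩ := hr
  refine ⟨p.lTensor _ w, ?_⟩
  rw [← hfix, ← hw, ← LinearMap.comp_apply, ← LinearMap.comp_apply]
  congr 1
  exact TensorProduct.ext' fun a b => rfl
where
  eq_of_slice_eq_zero {D E : Submodule k A} {x : A ⊗[k] A} (χ : A →ₗ[k] k) (hχ : ∀ d ∈ D ⊓ E, χ d = 0)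
      (hD : x ∈ LinearMap.range (D.subtype.lTensor A)) (hE : x ∈ LinearMap.range (E.subtype.lTensor A)) :
      slice χ x = 0 := by
    obtain ⟨f, g, hfg, hf, hg⟩ : ∃ f g : A →ₗ[k] k, χ = f + g ∧ (∀ d ∈ D, f d = 0) ∧ ∀ e ∈ E, g e = 0 := by
      have hmem : χ ∈ D.dualAnnihilator ⊔ E.dualAnnihilator := by
        rw [← Subspace.dualAnnihilator_inf_eq]; exact (Submodule.mem_dualAnnihilator _).2 hχ
      obtain ⟨f, hf, g, hg, h⟩ := Submodule.mem_sup.1 hmem
      exact ⟨f, g, h.symm, (Submodule.mem_dualAnnihilator _).1 hf, (Submodule.mem_dualAnnihilator _).1 hg⟩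
    have : slice χ x = slice f x + slice g x := by
      rw [hfg]; clear hD hE; induction x using TensorProduct.induction_on with
      | zero => simp
      | tmul a b => simp [add_smul]
      | add a b ha hb => simp only [map_add, ha, hb]; abel
    rw [this, slice_eq_zero_of_mem_range f hf hD, slice_eq_zero_of_mem_range g hg hE, add_zero]

theorem isSubcoalg_finset_sup (s : Finset (SimpSub k A)) : IsSubcoalg k A (s.sup Subtype.val) :=
  Finset.sup_induction isSubcoalg_bot (fun _ ha _ hb => isSubcoalg_sup ha hb) fun b _ => b.2.2.1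

theorem eq_or_le_of_le_sup {D E F : Submodule k A} (hD : IsSimpleSubcoalg k A D) (hE : IsSimpleSubcoalg k A E)
    (hF : IsSubcoalg k A F) (h : D ≤ E ⊔ F) : D = E ∨ D ≤ F := by
  rcases hD.2.2 (D ⊓ E) inf_le_left (isSubcoalg_inf hD.2.1 hE.2.1) with h0 | h0
  · refine Or.inr fun d hd => ?_
    have hslice : ∀ χ : A →ₗ[k] k, (∀ x ∈ F, χ x = 0) → (TensorProduct.lid k A) (χ.rTensor A (CoalgebraStruct.comul (R := k) d)) = 0 := by
      intro χ hχ
      obtain ⟨e, he, f, hf, hef⟩ := Submodule.mem_sup.1 (h hd)
      have key : ∀ {U : Submodule k A} {x : A}, IsSubcoalg k A U → x ∈ U →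
          (TensorProduct.lid k A) (χ.rTensor A (CoalgebraStruct.comul (R := k) x)) ∈ U ∧
          ((∀ y ∈ U, χ y = 0) → (TensorProduct.lid k A) (χ.rTensor A (CoalgebraStruct.comul (R := k) x)) = 0) := by
        intro U x hU hx
        obtain ⟨z, hz⟩ := hU x hx
        rw [← hz]
        clear hz
        constructor
        · induction z using TensorProduct.induction_on with
          | zero => simp
          | tmul a b => simpa using U.smul_mem _ b.2
          | add a b ha hb => simp only [map_add]; exact add_mem ha hb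
        · intro hUχ
          induction z using TensorProduct.induction_on with
          | zero => simp
          | tmul a b => simp [hUχ a a.2]
          | add a b ha hb => simp only [map_add, ha, hb, add_zero]
      have h1 : (TensorProduct.lid k A) (χ.rTensor A (CoalgebraStruct.comul (R := k) d)) ∈ D ⊓ E := by
        refine ⟨(key hD.2.1 hd).1, ?_⟩
        rw [← hef, map_add, map_add, map_add, (key hF hf).2 hχ, add_zero]
        exact (key hE.2.1 he).1
      rwa [h0, Submodule.mem_bot] at h1
    by_contra hdF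
    obtain ⟨χ, hχd, hχF⟩ := Submodule.exists_dual_map_eq_bot_of_notMem hdF inferInstance
    refine hχd ?_
    have hz := hslice χ fun x hx => by
      have : χ x ∈ F.map χ := Submodule.mem_map_of_mem hx
      rwa [hχF, Submodule.mem_bot] at this
    have := congrArg (CoalgebraStruct.counit (R := k)) hz
    rw [map_zero] at this
    rw [← this]
    exact counit_lid χ d
  · refine Or.inl ?_
    have hle : D ≤ E := h0 ▸ inf_le_right
    rcases hE.2.2 D hle hD.2.1 with h1 | h1
    · exact absurd h1 hD.1
    · exact h1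
where
  counit_lid (χ : A →ₗ[k] k) (d : A) :
      χ d = CoalgebraStruct.counit (R := k) ((TensorProduct.lid k A) (χ.rTensor A (CoalgebraStruct.comul (R := k) d))) := by
    have key : ∀ z : A ⊗[k] A, CoalgebraStruct.counit (R := k) ((TensorProduct.lid k A) (χ.rTensor A z)) =
        χ ((TensorProduct.rid k A) ((CoalgebraStruct.counit (R := k)).lTensor A z)) := fun z => by
      induction z using TensorProduct.induction_on with
      | zero => simp
      | tmul a b => simp [mul_comm]
      | add a b ha hb => simp only [map_add, ha, hb]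
    rw [key, Coalgebra.lTensor_counit_comul, TensorProduct.rid_tmul, one_smul]

theorem disjoint_finset_sup {D : SimpSub k A} {s : Finset (SimpSub k A)} (hD : D ∉ s) :
    Disjoint D.1 (s.sup Subtype.val) := by
  classical
  have hnle : ∀ t : Finset (SimpSub k A), D.1 ≤ t.sup Subtype.val → D ∈ t := by
    intro t
    induction t using Finset.induction_on with
    | empty => intro h; exact absurd (le_bot_iff.1 (by simpa using h)) D.2.1
    | insert a t _ ih =>
      intro h
      rw [Finset.sup_insert] at h
      rcases eq_or_le_of_le_sup D.2 a.2 (isSubcoalg_finset_sup t) h with h1 | h1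
      · rw [Subtype.ext h1]; exact Finset.mem_insert_self _ _
      · exact Finset.mem_insert_of_mem (ih h1)
  rcases D.2.2.2 _ inf_le_left (isSubcoalg_inf D.2.2.1 (isSubcoalg_finset_sup s)) with h | h
  · exact disjoint_iff.2 h
  · exact absurd (hnle s (h ▸ inf_le_right)) hD

variable (M : Type w') [AddCommGroup M] [Module k M] [HopfRep.Comod k A M]

theorem isSubcomod_isoComp {D : Submodule k A} (hD : IsSubcoalg k A D) :
    HopfRep.IsSubcomod (k := k) (A := A) (isoComp M D) := by
  intro m hm
  rw [mem_range_rTensor_iff]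
  intro χ
  rw [isoComp, Submodule.mem_comap, mem_range_lTensor_iff]
  intro ψ hψ
  rw [← smul_slice (V := M) χ ψ m]
  refine slice_eq_zero_of_mem_range _ ?_ hm
  intro d hd
  rw [LinearMap.convMul_def]
  obtain ⟨z, hz⟩ := hD d hd
  simp only [LinearMap.comp_apply, WithConv.ofConv_toConv]
  rw [← hz]
  clear hz
  induction z using TensorProduct.induction_on with
  | zero => simp
  | tmul a b => simp [hψ a a.2, hψ b b.2]
  | add a b ha hb => simp only [map_add, ha, hb, add_zero]
where
  smul_slice {V : Type w'} [AddCommGroup V] [Module k V] [HopfRep.Comod k A V] (χ ψ : A →ₗ[k] k) (v : V) :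
      slice (WithConv.ofConv (WithConv.toConv ψ * WithConv.toConv χ)) (HopfRep.Comod.coact (k := k) (A := A) v) =
        slice ψ (HopfRep.Comod.coact (k := k) (A := A) (slice χ (HopfRep.Comod.coact (k := k) (A := A) v))) :=
    slice_mul (WithConv.toConv ψ) (WithConv.toConv χ) v

theorem mem_of_sum_mem {N : Submodule k M} (hN : HopfRep.IsSubcomod (k := k) (A := A) N) (s : Finset (SimpSub k A))
    (m : SimpSub k A → M) (hm : ∀ D ∈ s, m D ∈ isoComp M D.1) (hsum : ∑ D ∈ s, m D ∈ N) :
    ∀ D ∈ s, m D ∈ N := by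
  classical
  intro D hD
  obtain ⟨C, hC, hcompl⟩ := (disjoint_finset_sup (s := s.erase D) (Finset.notMem_erase D s)).exists_isCompl
  let φ : A →ₗ[k] k := (CoalgebraStruct.counit (R := k)) ∘ₗ Submodule.projection _ _ hcompl
  have h := slice_mem_of_mem_range φ N (hN _ hsum)
  rw [map_sum, map_sum, Finset.sum_eq_single D] at h
  · have e : slice φ (HopfRep.Comod.coact (k := k) (A := A) (m D)) = m D := by
      obtain ⟨z, hz⟩ := hm D hD
      have h1 := LinearMap.congr_fun (actL_counit (k := k) (C := A) (V := M)) (m D)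
      rw [actL, LinearMap.comp_apply, LinearMap.id_apply] at h1
      conv_rhs => rw [← h1]
      rw [← hz, slice_lTensor, slice_lTensor]
      congr 2
      refine LinearMap.ext fun d => ?_
      simp only [φ, LinearMap.comp_apply, Submodule.subtype_apply]
      rw [Submodule.projection_apply_of_mem_left hcompl (hC d.2)]
    rwa [e] at h
  · intro E hE hne
    refine slice_eq_zero_of_mem_range φ ?_ (hm E hE)
    intro d hd
    have hmem : E ∈ s.erase D := Finset.mem_erase_of_ne_of_mem hne hE
    have hd' : d ∈ (s.erase D).sup Subtype.val :=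
      (show E.1 ≤ (s.erase D).sup Subtype.val from Finset.le_sup (α := Submodule k A) (β := SimpSub k A) (s := s.erase D) (b := E) (f := fun X => X.1) hmem) hd
    simp only [φ, LinearMap.comp_apply]
    rw [(Submodule.projection_apply_eq_zero_iff hcompl).2 hd', map_zero]
  · exact fun h => absurd hD h

theorem le_iSup_inf_isoComp (htop : (⨆ D : SimpSub k A, isoComp M D.1) = ⊤) {N : Submodule k M}
    (hN : HopfRep.IsSubcomod (k := k) (A := A) N) : N ≤ ⨆ D : SimpSub k A, N ⊓ isoComp M D.1 := by
  intro n hn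
  have hn' : n ∈ ⨆ D : SimpSub k A, isoComp M D.1 := htop ▸ trivial
  obtain ⟨f, hf, hsum⟩ := (Submodule.mem_iSup_iff_exists_finsupp _ _).1 hn'
  rw [← hsum]
  exact sum_mem fun D hD => Submodule.mem_iSup_of_mem D
    ⟨mem_of_sum_mem M hN f.support f (fun D _ => hf D) (by rw [Finsupp.sum] at hsum; rwa [hsum]) D hD, hf D⟩

theorem exists_inf_isoComp_ne_bot (htop : (⨆ D : SimpSub k A, isoComp M D.1) = ⊤) {N : Submodule k M}
    (hN : HopfRep.IsSubcomod (k := k) (A := A) N) (hne : N ≠ ⊥) : ∃ D : SimpSub k A, N ⊓ isoComp M D.1 ≠ ⊥ := by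
  by_contra h
  simp only [not_exists, not_not] at h
  refine hne (le_bot_iff.1 ((le_iSup_inf_isoComp M htop hN).trans ?_))
  simp [h]

end Coalg

end Groth.Agent.GHConst3
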