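/-
Generated submodules are subcomodules; comparison of weights.
-/
import Groth.Agent.Lib.GHConst3.Basic
import Mathlib.Topology.Algebra.InfiniteSum.Order
import Mathlib.Analysis.Normed.Group.InfiniteSum
import Mathlib.Analysis.Real.Sqrt

set_option autoImplicit false

universe u v w w'

open TensorProduct

namespace Groth.Agent.GHConst3

open W4c3ghconstell CoalgH23

variable {k : Type u} [Field k] {A : Type v} [CommRing A] [HopfAlgebra k A]
  {R : Type w} [CommRing R] [Algebra k R] [HopfRep.Comod k A R]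
  {M : Type w'} [AddCommGroup M] [Module k M] [Module R M] [IsScalarTower k R M]
  [HopfRep.Comod k A M] [TameAct.IsHopfMod k A R M]

theorem isSubcomod_span (W : Submodule k M) (hW : HopfRep.IsSubcomod (k := k) (A := A) W) :
    HopfRep.IsSubcomod (k := k) (A := A) ((Submodule.span R (W : Set M)).restrictScalars k) := by
  intro m hm
  change m ∈ Submodule.span R (W : Set M) at hm
  induction hm using Submodule.span_induction with
  | mem x hx =>
    obtain ⟨z, hz⟩ := hW x hx
    exact ⟨(Submodule.inclusion (show W ≤ (Submodule.span R (W : Set M)).restrictScalars k from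
      Submodule.subset_span)).rTensor A z, by
      rw [← LinearMap.comp_apply, ← LinearMap.rTensor_comp]; exact hz⟩
  | zero => rw [map_zero]; exact zero_mem _
  | add a b _ _ ha hb => rw [map_add]; exact add_mem ha hb
  | smul r a _ ha =>
    obtain ⟨z, hz⟩ := ha
    rw [TameAct.IsHopfMod.coact_smul, ← hz]
    clear hz
    generalize HopfRep.Comod.coact (k := k) (A := A) r = y
    induction y using TensorProduct.induction_on with
    | zero => rw [map_zero, LinearMap.zero_apply]; exact zero_mem _
    | add y y' hy hy' => rw [map_add, LinearMap.add_apply]; exact add_mem hy hy'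
    | tmul b c =>
      induction z using TensorProduct.induction_on with
      | zero => rw [map_zero, map_zero]; exact zero_mem _
      | add z z' hz hz' => rw [map_add, map_add]; exact add_mem hz hz'
      | tmul n c' =>
        rw [LinearMap.rTensor_tmul, TameAct.hmSMul_tmul]
        exact ⟨(⟨b • (n : M), Submodule.smul_mem _ b n.2⟩ : (Submodule.span R (W : Set M)).restrictScalars k) ⊗ₜ (c * c'),
          LinearMap.rTensor_tmul _ _ _ _⟩

theorem isSubcomod_genIn (S : Set (SimpSub k A)) {N : Submodule R M}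
    (hN : HopfRep.IsSubcomod (k := k) (A := A) (N.restrictScalars k)) :
    HopfRep.IsSubcomod (k := k) (A := A) ((genIn k A R M S N).restrictScalars k) := by
  have hW : HopfRep.IsSubcomod (k := k) (A := A) (⨆ D ∈ S, (N.restrictScalars k ⊓ isoComp M (D : SimpSub k A).1)) := by
    intro m hm
    rw [mem_range_rTensor_iff]
    intro χ
    have hmap : ∀ D ∈ S, (N.restrictScalars k ⊓ isoComp M (D : SimpSub k A).1) ≤
        (⨆ D ∈ S, (N.restrictScalars k ⊓ isoComp M (D : SimpSub k A).1)).comap
          (slice χ ∘ₗ HopfRep.Comod.coact (k := k) (A := A)) := fun D hD x hx =>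
      Submodule.mem_iSup_of_mem D (Submodule.mem_iSup_of_mem hD
        ⟨slice_mem_of_mem_range χ _ (hN x hx.1), slice_mem_of_mem_range χ _ (isSubcomod_isoComp M D.2.2.1 x hx.2)⟩)
    exact iSup₂_le hmap hm
  have e : genIn k A R M S N = Submodule.span R
      ((⨆ D ∈ S, (N.restrictScalars k ⊓ isoComp M (D : SimpSub k A).1) : Submodule k M) : Set M) := by
    refine le_antisymm (Submodule.span_mono ?_) (Submodule.span_le.2 ?_)
    · exact Set.iUnion₂_subset fun D hD => SetLike.coe_subset_coe.2 (le_iSup₂_of_le D hD le_rfl)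
    · exact fun x hx => (iSup₂_le fun D hD y hy => Submodule.subset_span (Set.mem_iUnion₂.2 ⟨D, hD, hy⟩) :
        (⨆ D ∈ S, (N.restrictScalars k ⊓ isoComp M (D : SimpSub k A).1)) ≤ (genIn k A R M S N).restrictScalars k) hx
  rw [e]
  exact isSubcomod_span _ hW

omit [HopfRep.Comod k A R] [TameAct.IsHopfMod k A R M] in
theorem genIn_le (S : Set (SimpSub k A)) (N : Submodule R M) : genIn k A R M S N ≤ N :=
  Submodule.span_le.2 (Set.iUnion₂_subset fun _ _ _ hx => hx.1)

omit [HopfRep.Comod k A R] [TameAct.IsHopfMod k A R M] in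
theorem genIn_inf (S : Set (SimpSub k A)) (N : Submodule R M) {D : SimpSub k A} (hD : D ∈ S) :
    (genIn k A R M S N).restrictScalars k ⊓ isoComp M D.1 = N.restrictScalars k ⊓ isoComp M D.1 :=
  le_antisymm (inf_le_inf_right _ fun _ hx => genIn_le S N hx)
    (le_inf (fun _ hx => Submodule.subset_span (Set.mem_iUnion₂.2 ⟨D, hD, hx⟩)) inf_le_right)

omit [HopfRep.Comod k A R] [TameAct.IsHopfMod k A R M] in
theorem genIn_idem (S : Set (SimpSub k A)) (N : Submodule R M) :
    genIn k A R M S (genIn k A R M S N) = genIn k A R M S N := by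
  refine le_antisymm (genIn_le S _) (Submodule.span_le.2 (Set.iUnion₂_subset fun D hD x hx => ?_))
  exact Submodule.subset_span (Set.mem_iUnion₂.2 ⟨D, hD, (genIn_inf S N hD).symm ▸ hx⟩)

variable (h : SimpSub k A → ℕ)

theorem hilbAt_le (hM : IsConstellation k A R M h) (N : Submodule k M) (D : SimpSub k A) : hilbAt M N D ≤ h D := by
  haveI := (hM.2.2 D).1
  rw [← (hM.2.2 D).2]
  exact Submodule.finrank_mono inf_le_right

theorem hilbAt_mono (hM : IsConstellation k A R M h) {N N' : Submodule k M} (hle : N ≤ N') (D : SimpSub k A) :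
    hilbAt M N D ≤ hilbAt M N' D := by
  haveI := (hM.2.2 D).1
  haveI : Module.Finite k ↥(N' ⊓ isoComp M D.1) := Submodule.finiteDimensional_of_le inf_le_right
  exact Submodule.finrank_mono (inf_le_inf_right _ hle)

theorem hilbAt_top (hM : IsConstellation k A R M h) (D : SimpSub k A) : hilbAt M (⊤ : Submodule k M) D = h D := by
  rw [hilbAt, top_inf_eq, (hM.2.2 D).2]

theorem hilbAt_eq_zero_iff (hM : IsConstellation k A R M h) (N : Submodule k M) (D : SimpSub k A) :
    hilbAt M N D = 0 ↔ N ⊓ isoComp M D.1 = ⊥ := by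
  haveI := (hM.2.2 D).1
  haveI : Module.Finite k ↥(N ⊓ isoComp M D.1) := Submodule.finiteDimensional_of_le inf_le_right
  exact Submodule.finrank_eq_zero

variable {θ : SimpSub k A → ℚ}

theorem summable_weight (hM : IsConstellation k A R M h) (hsum : HasSum (fun D => (θ D : ℝ) * (h D : ℝ)) 0)
    (N : Submodule k M) : Summable fun D : SimpSub k A => (θ D : ℝ) * (hilbAt M N D : ℝ) := by
  refine Summable.of_norm_bounded (g := fun D => |(θ D : ℝ) * (h D : ℝ)|) hsum.summable.abs fun D => ?_
  rw [Real.norm_eq_abs, abs_mul, abs_mul, Nat.abs_cast, Nat.abs_cast]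
  exact mul_le_mul_of_nonneg_left (Nat.cast_le.2 (hilbAt_le h hM N D)) (abs_nonneg _)

theorem theta_top (hM : IsConstellation k A R M h) (hsum : HasSum (fun D => (θ D : ℝ) * (h D : ℝ)) 0) :
    theta M θ (⊤ : Submodule k M) = 0 := by
  simp only [theta, hilbAt_top h hM]
  exact hsum.tsum_eq

theorem theta_le (hM : IsConstellation k A R M h) (hsum : HasSum (fun D => (θ D : ℝ) * (h D : ℝ)) 0)
    {N N' : Submodule k M} (hle : N ≤ N') (hneg : ∀ D, θ D < 0 → hilbAt M N D = hilbAt M N' D) :
    theta M θ N ≤ theta M θ N' := by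
  refine Summable.tsum_le_tsum (fun D => ?_) (summable_weight h hM hsum N) (summable_weight h hM hsum N')
  by_cases hD : θ D < 0
  · rw [hneg D hD]
  · exact mul_le_mul_of_nonneg_left (Nat.cast_le.2 (hilbAt_mono h hM hle D)) (Rat.cast_nonneg.2 (not_lt.1 hD))

theorem theta_eq_imp (hM : IsConstellation k A R M h) (hsum : HasSum (fun D => (θ D : ℝ) * (h D : ℝ)) 0)
    {N N' : Submodule k M} (hle : N ≤ N') (hneg : ∀ D, θ D < 0 → hilbAt M N D = hilbAt M N' D)
    (heq : theta M θ N' ≤ theta M θ N) (D : SimpSub k A) (hD : 0 < θ D) : hilbAt M N D = hilbAt M N' D := by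
  by_contra hne
  refine not_lt.2 heq (Summable.tsum_lt_tsum (i := D) (fun E => ?_) ?_ (summable_weight h hM hsum N)
    (summable_weight h hM hsum N'))
  · by_cases hE : θ E < 0
    · simp only [hneg E hE, le_refl]
    · exact mul_le_mul_of_nonneg_left (Nat.cast_le.2 (hilbAt_mono h hM hle E)) (Rat.cast_nonneg.2 (not_lt.1 hE))
  · exact mul_lt_mul_of_pos_left (Nat.cast_lt.2 (lt_of_le_of_ne (hilbAt_mono h hM hle D) hne)) (Rat.cast_pos.2 hD)

theorem theta_nonneg_of_neg_eq_zero (N : Submodule k M) (hneg : ∀ D, θ D < 0 → hilbAt M N D = 0) :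
    0 ≤ theta M θ N := by
  refine tsum_nonneg fun D => ?_
  by_cases hD : θ D < 0
  · rw [hneg D hD, Nat.cast_zero, mul_zero]
  · exact mul_nonneg (Rat.cast_nonneg.2 (not_lt.1 hD)) (Nat.cast_nonneg _)

theorem theta_pos_of_neg_eq_zero (hM : IsConstellation k A R M h) (hsum : HasSum (fun D => (θ D : ℝ) * (h D : ℝ)) 0)
    (N : Submodule k M) (hneg : ∀ D, θ D < 0 → hilbAt M N D = 0) (D : SimpSub k A) (hD : θ D ≠ 0)
    (hD' : hilbAt M N D ≠ 0) : 0 < theta M θ N := by
  refine (summable_weight h hM hsum N).tsum_pos (fun E => ?_) D ?_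
  · by_cases hE : θ E < 0
    · rw [hneg E hE, Nat.cast_zero, mul_zero]
    · exact mul_nonneg (Rat.cast_nonneg.2 (not_lt.1 hE)) (Nat.cast_nonneg _)
  · exact mul_pos (Rat.cast_pos.2 (lt_of_le_of_ne (not_lt.1 fun h' => hD' (hneg D h')) hD.symm))
      (Nat.cast_pos.2 (Nat.pos_of_ne_zero hD'))

theorem genIn_eq_bot_iff_hilb (hM : IsConstellation k A R M h) (S : Set (SimpSub k A)) (N : Submodule R M)
    (hb : genIn k A R M S N = ⊥) (D : SimpSub k A) (hD : D ∈ S) : hilbAt M (N.restrictScalars k) D = 0 := by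
  rw [hilbAt_eq_zero_iff h hM, ← genIn_inf S N hD, hb, Submodule.restrictScalars_bot, bot_inf_eq]

end Groth.Agent.GHConst3
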